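import Groth.Agent.RelVALib.UPProp
import Groth.Agent.RelVALib.UPBaseChange
import Groth.Agent.AmpleLib.Twist

/-!
# Morphisms between projective bundles which act trivially on ratios are mutually inverse
-/

set_option autoImplicit false
set_option linter.unusedSectionVars false
set_option backward.isDefEq.respectTransparency.types false
set_option maxHeartbeats 1000000

universe u

open AlgebraicGeometry CategoryTheory TopologicalSpace Opposite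
open Groth.Agent.Coherent Groth.Agent.PicLib Groth.Agent.AmpleLib Groth.Agent.RelVALib

namespace Groth.Agent.PTw13

variable {Y P Q : Scheme.{u}} {E₁ E₂ : Y.Modules}
  {𝒮₁ : RelProj.QCGrAlg Y} {j₁ : E₁ ⟶ 𝒮₁.toModule} {p : P ⟶ Y}
  {chart₁ : ∀ (U : Y.Opens) (hU : IsAffineOpen U), ((p ⁻¹ᵁ U : P.Opens) : Scheme.{u}) ≅ Proj (𝒮₁.deg U hU)}
  {O₁ : P.Modules}
  {lam₁ : ∀ (U : Y.Opens) (hU : IsAffineOpen U),
    O₁ ⟶ (Scheme.Modules.pushforward (RelProj.emb p chart₁ U hU)).obj (GrTwist.twist (𝒮₁.deg U hU) 1)}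
  {φ₁ : E₁ ⟶ (Scheme.Modules.pushforward p).obj O₁}
  {𝒮₂ : RelProj.QCGrAlg Y} {j₂ : E₂ ⟶ 𝒮₂.toModule} {q : Q ⟶ Y}
  {chart₂ : ∀ (U : Y.Opens) (hU : IsAffineOpen U), ((q ⁻¹ᵁ U : Q.Opens) : Scheme.{u}) ≅ Proj (𝒮₂.deg U hU)}
  {O₂ : Q.Modules}
  {lam₂ : ∀ (U : Y.Opens) (hU : IsAffineOpen U),
    O₂ ⟶ (Scheme.Modules.pushforward (RelProj.emb q chart₂ U hU)).obj (GrTwist.twist (𝒮₂.deg U hU) 1)}
  {φ₂ : E₂ ⟶ (Scheme.Modules.pushforward q).obj O₂}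
  (D₁ : PBundle E₁ 𝒮₁ j₁ p chart₁ O₁ lam₁ φ₁) (D₂ : PBundle E₂ 𝒮₂ j₂ q chart₂ O₂ lam₂ φ₂)
  {A : P.Modules}

include D₁ D₂

/-- The effect of a classified morphism on ratios. -/
theorem ratio {t : E₂ ⟶ (Scheme.Modules.pushforward p).obj (CohB1.tensorMod O₁ A)}
    {r : P ⟶ Q} {hr : r ≫ q = p} {τ : (Scheme.Modules.pullback r).obj O₂ ≅ CohB1.tensorMod O₁ A}
    (h : Classifies φ₂ p t r hr τ) {U : Y.Opens} (hU : IsAffineOpen U)
    (m : Γ(E₁, U) → Γ(E₂, U)) (s : Γ(A, p ⁻¹ᵁ U)) (hs : IsGen A (p ⁻¹ᵁ U) s)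
    (hm : ∀ e : Γ(E₁, U), t.app U (m e) = tmul (show Γ(O₁, p ⁻¹ᵁ U) from φ₁.app U e) s) (e : Γ(E₁, U)) :
    ∃ hle : opn j₁ p chart₁ hU e ≤ r ⁻¹ᵁ opn j₂ q chart₂ hU (m e),
      ∀ (e' : Γ(E₁, U)) (c : Γ(P, opn j₁ p chart₁ hU e)) (d : Γ(Q, opn j₂ q chart₂ hU (m e))),
        c • resM O₁ (D₁.opn_le hU e) (φ₁.app U e) = resM O₁ (D₁.opn_le hU e) (φ₁.app U e') →
        d • resM O₂ (D₂.opn_le hU (m e)) (φ₂.app U (m e)) = resM O₂ (D₂.opn_le hU (m e)) (φ₂.app U (m e')) →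
        r.appLE _ _ hle d = c := by
  let W := opn j₁ p chart₁ hU e
  have hW : W ≤ p ⁻¹ᵁ U := D₁.opn_le hU e
  have hgen : IsGen (CohB1.tensorMod O₁ A) W (resM _ hW (t.app U (m e))) := by
    rw [hm, resM_tmul]
    exact isGen_tmul (D₁.isGen_phi hU e) (hs.restrict hW)
  have hG := good_of_classifies D₂ h hU (m e) hW hgen
  have hle := (range_le_iff r _).1 hG.range
  refine ⟨hle, fun e' c d hc hd => ?_⟩
  have h1 := hG.rel (m e') d hd
  rw [ev_restrict r _ hle, hm, hm, resM_tmul, resM_tmul, ← hc, tmul_smul_left] at h1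
  refine (hgen W le_rfl).1 ?_
  show _ • resM _ le_rfl _ = _ • resM _ le_rfl _
  rw [resM_self, hm, resM_tmul]
  exact h1

/-- Two classified morphisms acting trivially on ratios compose to the identity. -/
theorem comp_eq_id {B : Q.Modules}
    {t₂ : E₂ ⟶ (Scheme.Modules.pushforward p).obj (CohB1.tensorMod O₁ A)}
    {r : P ⟶ Q} {hr : r ≫ q = p} {τ : (Scheme.Modules.pullback r).obj O₂ ≅ CohB1.tensorMod O₁ A}
    (h : Classifies φ₂ p t₂ r hr τ)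
    {t₁ : E₁ ⟶ (Scheme.Modules.pushforward q).obj (CohB1.tensorMod O₂ B)}
    {r' : Q ⟶ P} {hr' : r' ≫ p = q} {τ' : (Scheme.Modules.pullback r').obj O₁ ≅ CohB1.tensorMod O₂ B}
    (h' : Classifies φ₁ q t₁ r' hr' τ')
    (hloc : ∀ y : Y, ∃ (U : Y.Opens) (_ : IsAffineOpen U) (m : Γ(E₁, U) → Γ(E₂, U)) (s : Γ(A, p ⁻¹ᵁ U))
      (s' : Γ(B, q ⁻¹ᵁ U)), y ∈ U ∧ Function.Surjective m ∧ IsGen A (p ⁻¹ᵁ U) s ∧ IsGen B (q ⁻¹ᵁ U) s' ∧
        (∀ e : Γ(E₁, U), t₂.app U (m e) = tmul (show Γ(O₁, p ⁻¹ᵁ U) from φ₁.app U e) s) ∧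
        ∀ e : Γ(E₁, U), t₁.app U e = tmul (show Γ(O₂, q ⁻¹ᵁ U) from φ₂.app U (m e)) s') :
    r ≫ r' = 𝟙 P ∧ r' ≫ r = 𝟙 Q := by
  choose U hU m s s' hyU hsurj hs hs' hm hm' using hloc
  have key : ∀ (y : Y) (e : Γ(E₁, U y)),
      ∃ hle₂ : opn j₂ q chart₂ (hU y) (m y e) ≤ r' ⁻¹ᵁ opn j₁ p chart₁ (hU y) e,
        ∀ (e' : Γ(E₁, U y)) (c : Γ(P, opn j₁ p chart₁ (hU y) e)) (d : Γ(Q, opn j₂ q chart₂ (hU y) (m y e))),
          c • resM O₁ (D₁.opn_le (hU y) e) (φ₁.app (U y) e) = resM O₁ (D₁.opn_le (hU y) e) (φ₁.app (U y) e') →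
          d • resM O₂ (D₂.opn_le (hU y) (m y e)) (φ₂.app (U y) (m y e)) =
              resM O₂ (D₂.opn_le (hU y) (m y e)) (φ₂.app (U y) (m y e')) →
          r'.appLE _ _ hle₂ c = d := by
    intro y e
    let W := opn j₂ q chart₂ (hU y) (m y e)
    have hW : W ≤ q ⁻¹ᵁ U y := D₂.opn_le (hU y) (m y e)
    have hgen : IsGen (CohB1.tensorMod O₂ B) W (resM _ hW (t₁.app (U y) e)) := by
      rw [hm', resM_tmul]
      exact isGen_tmul (D₂.isGen_phi (hU y) (m y e)) ((hs' y).restrict hW)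
    have hG := good_of_classifies D₁ h' (hU y) e hW hgen
    have hle := (range_le_iff r' _).1 hG.range
    refine ⟨hle, fun e' c d hc hd => ?_⟩
    have h1 := hG.rel e' c hc
    rw [ev_restrict r' _ hle, hm', hm', resM_tmul, resM_tmul, ← hd, tmul_smul_left] at h1
    refine (hgen W le_rfl).1 ?_
    show _ • resM _ le_rfl _ = _ • resM _ le_rfl _
    rw [resM_self, hm', resM_tmul]
    exact h1
  choose hle₂ hrat₂ using key
  choose hle₁ hrat₁ using fun (y : Y) (e : Γ(E₁, U y)) => ratio D₁ D₂ h (hU y) (m y) (s y) (hs y) (hm y) e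
  have coefEx : ∀ (y : Y) (e e' : Γ(E₁, U y)), ∃ (c : Γ(P, opn j₁ p chart₁ (hU y) e))
      (d : Γ(Q, opn j₂ q chart₂ (hU y) (m y e))),
      c • resM O₁ (D₁.opn_le (hU y) e) (φ₁.app (U y) e) = resM O₁ (D₁.opn_le (hU y) e) (φ₁.app (U y) e') ∧
      d • resM O₂ (D₂.opn_le (hU y) (m y e)) (φ₂.app (U y) (m y e)) =
        resM O₂ (D₂.opn_le (hU y) (m y e)) (φ₂.app (U y) (m y e')) := fun y e e' => by
    obtain ⟨c, hc⟩ := (D₁.isGen_phi (hU y) e _ le_rfl).2 (resM O₁ (D₁.opn_le (hU y) e) (φ₁.app (U y) e'))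
    obtain ⟨d, hd⟩ := (D₂.isGen_phi (hU y) (m y e) _ le_rfl).2
      (resM O₂ (D₂.opn_le (hU y) (m y e)) (φ₂.app (U y) (m y e')))
    simp only [resM_self] at hc hd
    exact ⟨c, d, hc, hd⟩
  -- ratios are fixed by the composites
  have fix₁ : ∀ (y : Y) (e e' : Γ(E₁, U y)) (c : Γ(P, opn j₁ p chart₁ (hU y) e)),
      c • resM O₁ (D₁.opn_le (hU y) e) (φ₁.app (U y) e) = resM O₁ (D₁.opn_le (hU y) e) (φ₁.app (U y) e') →
      (r ≫ r').appLE (opn j₁ p chart₁ (hU y) e) (opn j₁ p chart₁ (hU y) e) (fun z hz => hle₂ y e (hle₁ y e hz)) c = c := fun y e e' c hc => by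
    obtain ⟨c', d, hc', hd⟩ := coefEx y e e'
    rw [← Scheme.Hom.appLE_comp_appLE r r' _ _ _ (hle₂ y e) (hle₁ y e)]
    rw [CommRingCat.comp_apply, hrat₂ y e e' c d hc hd]
    exact hrat₁ y e e' c d hc hd
  have fix₂ : ∀ (y : Y) (e e' : Γ(E₁, U y)) (d : Γ(Q, opn j₂ q chart₂ (hU y) (m y e))),
      d • resM O₂ (D₂.opn_le (hU y) (m y e)) (φ₂.app (U y) (m y e)) =
          resM O₂ (D₂.opn_le (hU y) (m y e)) (φ₂.app (U y) (m y e')) →
      (r' ≫ r).appLE (opn j₂ q chart₂ (hU y) (m y e)) (opn j₂ q chart₂ (hU y) (m y e)) (fun z hz => hle₁ y e (hle₂ y e hz)) d = d := fun y e e' d hd => by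
    obtain ⟨c, d', hc, hd'⟩ := coefEx y e e'
    rw [← Scheme.Hom.appLE_comp_appLE r' r _ _ _ (hle₁ y e) (hle₂ y e)]
    rw [CommRingCat.comp_apply, hrat₁ y e e' c d hc hd]
    exact hrat₂ y e e' c d hc hd
  constructor
  · have hcov : ∀ x : P, ∃ e : Γ(E₁, U (p x)), x ∈ opn j₁ p chart₁ (hU (p x)) e := fun x =>
      D₁.exists_mem_opn (hU (p x)) (hyU (p x))
    choose e hxe using hcov
    let W : P → P.Opens := fun x => opn j₁ p chart₁ (hU (p x)) (e x)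
    have hc : IsOpenCover W := eq_top_iff.2 fun x _ => Opens.mem_iSup.2 ⟨x, hxe x⟩
    refine (P.openCoverOfIsOpenCover W hc).hom_ext _ _ fun x => ?_
    refine Good.eq (D := D₁) (g := p) (t := φ₁) (hU := hU (p x)) (e := e x) (W := W x) ?_ ?_
    · refine ⟨D₁.opn_le _ _, ?_, (range_le_iff (r ≫ r') _).2 (fun z hz => hle₂ _ _ (hle₁ _ _ hz)),
        D₁.isGen_phi _ _, fun e' c hc => ?_⟩
      · show ((W x).ι ≫ r ≫ r') ≫ p = _
        rw [Category.assoc, Category.assoc, hr', hr]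
      · refine (congrArg (fun z => z • resM O₁ (D₁.opn_le (hU (p x)) (e x)) (φ₁.app (U (p x)) (e x))) ?_).trans hc
        exact (ev_restrict (r ≫ r') _ _ c).trans (fix₁ _ _ e' c hc)
    · refine ⟨D₁.opn_le _ _, ?_, (range_le_iff (𝟙 P) _).2 le_rfl, D₁.isGen_phi _ _, fun e' c hc => ?_⟩
      · show ((W x).ι ≫ 𝟙 P) ≫ p = _
        rw [Category.comp_id]
      · refine (congrArg (fun z => z • resM O₁ (D₁.opn_le (hU (p x)) (e x)) (φ₁.app (U (p x)) (e x))) ?_).trans hc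
        refine (ev_restrict (𝟙 P) _ (le_rfl : W x ≤ _) c).trans ?_
        simp [Scheme.Hom.appLE]
        exact ConcreteCategory.congr_hom (P.presheaf.map_id _) c
  · have hcov : ∀ x : Q, ∃ e : Γ(E₁, U (q x)), x ∈ opn j₂ q chart₂ (hU (q x)) (m (q x) e) := fun x => by
      obtain ⟨z, hz⟩ := D₂.exists_mem_opn (hU (q x)) (hyU (q x))
      obtain ⟨e, he⟩ := hsurj (q x) z
      exact ⟨e, he ▸ hz⟩
    choose e hxe using hcov
    let W : Q → Q.Opens := fun x => opn j₂ q chart₂ (hU (q x)) (m (q x) (e x))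
    have hc : IsOpenCover W := eq_top_iff.2 fun x _ => Opens.mem_iSup.2 ⟨x, hxe x⟩
    refine (Q.openCoverOfIsOpenCover W hc).hom_ext _ _ fun x => ?_
    refine Good.eq (D := D₂) (g := q) (t := φ₂) (hU := hU (q x)) (e := m (q x) (e x)) (W := W x) ?_ ?_
    · refine ⟨D₂.opn_le _ _, ?_, (range_le_iff (r' ≫ r) _).2 (fun z hz => hle₁ _ _ (hle₂ _ _ hz)),
        D₂.isGen_phi _ _, fun z c hc => ?_⟩
      · show ((W x).ι ≫ r' ≫ r) ≫ q = _
        rw [Category.assoc, Category.assoc, hr, hr']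
      · obtain ⟨e', rfl⟩ := hsurj (q x) z
        refine (congrArg (fun w => w • resM O₂ (D₂.opn_le (hU (q x)) (m (q x) (e x)))
          (φ₂.app (U (q x)) (m (q x) (e x)))) ?_).trans hc
        exact (ev_restrict (r' ≫ r) _ _ c).trans (fix₂ _ _ e' c hc)
    · refine ⟨D₂.opn_le _ _, ?_, (range_le_iff (𝟙 Q) _).2 le_rfl, D₂.isGen_phi _ _, fun z c hc => ?_⟩
      · show ((W x).ι ≫ 𝟙 Q) ≫ q = _
        rw [Category.comp_id]
      · refine (congrArg (fun w => w • resM O₂ (D₂.opn_le (hU (q x)) (m (q x) (e x)))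
          (φ₂.app (U (q x)) (m (q x) (e x)))) ?_).trans hc
        refine (ev_restrict (𝟙 Q) _ (le_rfl : W x ≤ _) c).trans ?_
        simp [Scheme.Hom.appLE]
        exact ConcreteCategory.congr_hom (Q.presheaf.map_id _) c

end Groth.Agent.PTw13
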